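/-
Certificate data of a coset enumeration.
-/
import Cfsg.Agent.Lib.CosetEnum.SuzZ.Data

set_option autoImplicit false
set_option maxRecDepth 1000000

namespace CfsgLib.CosetEnum.SuzZ

open CfsgLib.CosetEnum

/-- Justifications of the facts from 0. -/
def just0 : List ℕ := [0xfff, 0xfff, 0xfff, 0xfff, 0xfff, 0xfff, 0xfff, 0xfff, 0xfff, 0x30000800200100001001025, 0xfff, 0x40000a00200100001001026, 0xfff, 0x50000c00200100001001027, 0xfff, 0x60000e00200100001001028, 0xfff, 0xfff, 0xfff, 0x100003000120020010000200102a, 0xfff, 0x100004000140020010000200102b, 0xfff, 0xfff, 0xfff, 0x200004000180020010000300102f, 0xfff, 0x2000050001a00200100003001030, 0xfff, 0x2000060001c00200100003001031, 0xfff, 0xfff, 0x3000050001f00200100004001033, 0xfff, 0x3000060002100200100004001034, 0xfff, 0x4000050002300200100005001035, 0xfff, 0x4000060002500200100005001036, 0xfff, 0xfff, 0xd0000c0000e0002800300100006001040, 0xfff, 0xf000290002a00200100007001027, 0x60000500028000290000e0000c0002a0060010000700101a, 0xfff, 0x70000a0002d0020010000800102f, 0xfff, 0x70000e0002f00200100008001031, 0xfff, 0xfff, 0x9000210003200200100009001028, 0xfff, 0xa0000c000340020010000a001035, 0xfff, 0xb00025000360020010000a001028, 0xfff, 0x1000011000380020010000d001024,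 0xfff, 0x1100001000060002a0003a0040010000e001063, 0x260002a0003b00000300025003017, 0x350002c0003b00000300025003018, 0x340000a00008000310003d00400100022001066, 0xfff, 0x11000140003f0020010000e00102f, 0x15000250003c0003b0004000400100010001062, 0x3b000410003f0003a0003b0004100000600026006013, 0x42000400020000002500000d, 0x3a00042000410030000000e000012, 0x39000440002b00300000024000000, 0x440002a0020000000e000019, 0x46000220003c0003a0020020000e002014, 0x33000470003700300000021000000, 0x2100047000250030000000400001b, 0x3200048000360030000000900001b, 0x1300049000150030000000f000007, 0x1e00049000190030000001600000d, 0x1f000490002300300000017000019, 0x310004a0002e0030000002000000d, 0x4b00040000420030000000f00000d, 0x4b000140020000000f000016, 0x4e0003e0020000001e000007, 0x450003900011000120004b000430003a00011000120004b000430003a00000c0000e009038, 0x46000520002900300000007000019, 0x1d00053000300030000001500000d, 0x6000530000e0030000000000001b, 0x1c000540002f0030000000300001b, 0x18000560002d00300000013000016, 0x570005100200000013000007, 0x570004e00200000013000022, 0x130004b00043000580004c0001e000130004b0004300000900025006029, 0x130005a0003e000590040000000f000007, 0x30005a0003a00300000000000012, 0x500005b0001800300000002000016,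 0x50005c0004600300000006000019, 0x160005d0001a00300000011000019, 0x170005d0001c0030000001200001b, 0x1b0005e0001d0030000001400000d, 0x5c0005200200000000000022, 0x5f000610006000300000011000022, 0x63000170020000001100001b, 0x5b0004c0020000000f000022, 0x100050000120005d00002000030005a0004f00013000030005c0001100012000650001e00013000120005d00002000030005a0004f00013000030005c0001100012000650001e00013000120005d00002000030005a0004f000130004900004000030005a0004f000120005d000020000100012000650001e000030005c0001100001000030005a0004f000120005d000020000100012000650001e000030005c0001100001000030005a0004f000120005d000020000100050000120005d00002000030005a0004f00013000030005c0001100012000650001e00013000120005d00002000030005a0004f00013000030005c0001100012000650001e00013000120005d00002000030005a0004f00006d0000f04e049, 0x1000660001300300000002000007, 0x16000670001f00300000011000019, 0x680004d00200000011000022, 0x100062000280000500001000640001600001000620002800005000010006400016000010006200028000050000120000000f047, 0x6a0005d00200000000000022, 0x6a0006700200000000000022, 0x6c0004900200000000000022, 0x50006a0001600300000006000019, 0x6e0005f00200000006000022, 0x6e0006800200000006000022, 0x6e0006900200000006000022, 0x2700027000050006a00001000050010050000600402c,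 0x240007100020000700001b0006f000270005e000060000500600400006003065, 0x500073000720007300400000000000019, 0x740005e00200000000000022]

theorem just0_ok : data.okChunk 0 just0 = true := by decide +kernel

theorem just0_len : just0.length = 118 := by decide +kernel

end CfsgLib.CosetEnum.SuzZ
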